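import Mathlib
import Groth.Prelude.Def_Found
import Groth.Agent.SymGr.RegLoc
import Groth.Agent.SymGr.CharZeroFibre
import Groth.Agent.RegLocus.GeomExt
import Groth.Agent.RegLocus.GeomRedTrans
import Groth.Agent.RegLocus.CplDescend
import Groth.Agent.RegLocus.SemilocalCpl

/-!
# Regular homomorphisms localised at primes of source and target
-/

set_option autoImplicit false
universe u

open TensorProduct IsLocalRing

namespace Groth.Agent.FormalFibreQF

/-- Localisations of a regular homomorphism are regular. -/
theorem isRegularHom_localization (C W T D : Type u) [CommRing C] [CommRing W] [CommRing T] [CommRing D]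
    [Algebra C W] [Algebra C T] [Algebra W D] [Algebra C D] [Algebra T D]
    [IsScalarTower C W D] [IsScalarTower C T D] (N : Submonoid C) [IsLocalization N T]
    (M : Submonoid W) [IsLocalization M D] [IsNoetherianRing D] (h : CAlg.IsRegularHom C W) :
    CAlg.IsRegularHom T D := by
  have : Module.Flat C W := h.1
  have : Module.Flat W D := IsLocalization.flat D M
  have : Module.Flat C D := Module.Flat.trans C W D
  refine ⟨(Module.flat_iff_of_isLocalization T N D).2 this,
    fun r _ => ⟨RegLocus.isNoetherianRing_fiber T D r, fun k' _ _ hfin => ?_⟩⟩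
  let r0 := r.comap (algebraMap C T)
  have : r0.IsPrime := Ideal.IsPrime.comap _
  let i : r0.ResidueField →+* r.ResidueField := Ideal.ResidueField.map r0 r (algebraMap C T) rfl
  have hi : Function.Surjective i :=
    ((RingHom.surjectiveOnStalks_of_isLocalization N T).residueFieldMap_bijective r0 r rfl).2
  letI : Algebra r0.ResidueField r.ResidueField := i.toAlgebra
  have : Module.Finite r0.ResidueField r.ResidueField := Module.Finite.of_surjective (Algebra.linearMap _ _) hi
  letI : Algebra r0.ResidueField k' := ((algebraMap r.ResidueField k').comp i).toAlgebra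
  have : IsScalarTower r0.ResidueField r.ResidueField k' := IsScalarTower.of_algebraMap_eq fun _ => rfl
  have hfin0 : Module.Finite r0.ResidueField k' := Module.Finite.trans r.ResidueField k'
  letI : Algebra T k' := ((algebraMap r.ResidueField k').comp (algebraMap T r.ResidueField)).toAlgebra
  have : IsScalarTower T r.ResidueField k' := IsScalarTower.of_algebraMap_eq fun _ => rfl
  letI : Algebra C k' := ((algebraMap T k').comp (algebraMap C T)).toAlgebra
  have : IsScalarTower C T k' := IsScalarTower.of_algebraMap_eq fun _ => rfl
  have : IsScalarTower C r0.ResidueField k' := IsScalarTower.of_algebraMap_eq fun c => by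
    show algebraMap r.ResidueField k' (algebraMap T r.ResidueField (algebraMap C T c)) =
      algebraMap r.ResidueField k' (i (algebraMap C r0.ResidueField c))
    rw [Ideal.ResidueField.map_algebraMap]
  have hW : IsRegularRing (W ⊗[C] k') :=
    RegLocus.isRegularRing_of_ringEquiv'
      ((Algebra.TensorProduct.cancelBaseChange C r0.ResidueField r0.ResidueField k' W).toRingEquiv.trans
        (Algebra.TensorProduct.comm C k' W).toRingEquiv) ((h.2 r0).2 k' hfin0)
  letI : Algebra (W ⊗[C] k') (D ⊗[W] (W ⊗[C] k')) := Algebra.TensorProduct.rightAlgebra
  have : IsLocalization (Algebra.algebraMapSubmonoid (W ⊗[C] k') M) (D ⊗[W] (W ⊗[C] k')) := inferInstance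
  have h1 : IsRegularRing (D ⊗[W] (W ⊗[C] k')) :=
    SymGr.isRegularRing_of_isLocalization (Algebra.algebraMapSubmonoid (W ⊗[C] k') M)
  have : TensorProduct.CompatibleSMul C T k' D := IsLocalization.tensorProduct_compatibleSMul N T _ _
  exact RegLocus.isRegularRing_of_ringEquiv'
    (((((Algebra.TensorProduct.cancelBaseChange C W W D k').toRingEquiv).trans
      (Algebra.TensorProduct.comm C D k').toRingEquiv).trans
      (Algebra.TensorProduct.equivOfCompatibleSMul C T k' k' D).toRingEquiv.symm).trans
      (Algebra.TensorProduct.cancelBaseChange T r.ResidueField r.ResidueField k' D).symm.toRingEquiv) h1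

end Groth.Agent.FormalFibreQF
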