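import Mathlib
import Groth.Agent.FormalFibreQF.Basic
import Groth.Agent.S4695

/-!
# Formal fibres of localisations of finite algebras
-/

set_option autoImplicit false
universe u

open TensorProduct IsLocalRing

namespace Groth.Agent.FormalFibreQF

/-- The local rings at maximal ideals of finite algebras over a local ring with regular completion map
have regular completion maps. -/
theorem isRegularHom_cpl_finite (A C : Type u) [CommRing A] [IsNoetherianRing A] [IsLocalRing A]
    [CommRing C] [Algebra A C] [Module.Finite A C] (n : Ideal C) [n.IsMaximal]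
    (hA : CAlg.IsRegularHom A (EGA4.Cpl A)) :
    CAlg.IsRegularHom (Localization.AtPrime n) (EGA4.Cpl (Localization.AtPrime n)) := by
  obtain ⟨hcN, hff, -⟩ := RegLocus.cpl_facts A
  have : IsNoetherianRing C := IsNoetherianRing.of_finite A C
  let T := Localization.AtPrime n
  have : IsNoetherianRing T := IsLocalization.isNoetherianRing n.primeCompl _ ‹_›
  obtain ⟨hDN, hDff, -⟩ := RegLocus.cpl_facts T
  let R := EGA4.Cpl A
  let D := EGA4.Cpl T
  have : IsNoetherianRing R := hcN
  have : IsNoetherianRing D := hDN
  have hn : n.comap (algebraMap A C) = maximalIdeal A :=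
    eq_maximalIdeal (Ideal.isMaximal_comap_of_isIntegral_of_isMaximal n)
  have hRm : maximalIdeal R = (maximalIdeal A).map (algebraMap A R) := AdicCompletion.maximalIdeal_eq_map
  have hTm : maximalIdeal T = n.map (algebraMap C T) := (Localization.AtPrime.map_eq_maximalIdeal).symm
  have hDT : maximalIdeal D = (maximalIdeal T).map (algebraMap T D) := AdicCompletion.maximalIdeal_eq_map
  have hDm : maximalIdeal D = n.map (algebraMap C D) :=
    hDT.trans ((congrArg (Ideal.map (algebraMap T D)) hTm).trans (by rw [Ideal.map_map, ← IsScalarTower.algebraMap_eq]))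
  obtain ⟨ρ0⟩ := RegLocus.exists_cplMap A T (maximalIdeal A) (maximalIdeal T) (by
    rw [← hn, IsScalarTower.algebraMap_eq A C T, ← Ideal.map_map, hTm]
    exact Ideal.map_mono Ideal.map_comap_le)
  obtain ⟨φ, hφC, -, hloc, -⟩ := SymGr.exists_iso_completion (A := A) (B := C) (R := R) (D := D) n
    (fun k r => by
      obtain ⟨a, ha⟩ := RegLocus.exists_approx A k r
      refine ⟨a, 1, fun h => ‹n.IsMaximal›.ne_top ((Ideal.eq_top_iff_one n).2 (by simpa using h)), ?_⟩
      rwa [map_one, mul_one, hRm])
    (by rw [hn]; exact hRm)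
    (fun b hb => by
      rw [IsScalarTower.algebraMap_apply C T D]
      exact (IsLocalization.map_units T (⟨b, hb⟩ : n.primeCompl)).map _)
    hDm
    (fun k d => by
      obtain ⟨x, hx⟩ := RegLocus.exists_approx T k d
      obtain ⟨⟨b, t⟩, ht⟩ := IsLocalization.surj n.primeCompl x
      refine ⟨b, t, t.2, ?_⟩
      rw [IsScalarTower.algebraMap_apply C T D, IsScalarTower.algebraMap_apply C T D b, ← ht, map_mul, ← sub_mul, hDT]
      exact Ideal.mul_mem_right _ _ hx)
    (fun k b hb => by
      rw [hDm, ← Ideal.map_pow, IsScalarTower.algebraMap_eq C T D, ← Ideal.map_map, RingHom.comp_apply,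
        ← Ideal.mem_comap, Ideal.comap_map_eq_self_of_faithfullyFlat,
        IsLocalization.algebraMap_mem_map_algebraMap_iff n.primeCompl] at hb
      exact hb)
    ρ0
  -- the base change `C → C ⊗ Â`
  have hW : CAlg.IsRegularHom C (C ⊗[A] R) :=
    (Groth.Agent.S4695.result A R C (Or.inr inferInstance)).1 hA
  letI : Algebra (R ⊗[A] C) D := (φ : R ⊗[A] C →+* D).toAlgebra
  letI : Algebra (C ⊗[A] R) D :=
    ((φ : R ⊗[A] C →+* D).comp (Algebra.TensorProduct.comm A C R).toRingEquiv.toRingHom).toAlgebra
  have : IsScalarTower C (C ⊗[A] R) D := IsScalarTower.of_algebraMap_eq (R := C) (S := C ⊗[A] R) (A := D) fun c => by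
    show algebraMap C D c = φ ((Algebra.TensorProduct.comm A C R) (c ⊗ₜ 1))
    rw [Algebra.TensorProduct.comm_tmul, hφC]
  let M := ((maximalIdeal D).comap φ).primeCompl
  have hloc' : IsLocalization (M.map (Algebra.TensorProduct.comm A C R).symm.toRingEquiv.toMonoidHom) D := by
    have := IsLocalization.isLocalization_of_base_ringEquiv M D (Algebra.TensorProduct.comm A C R).symm.toRingEquiv
    convert! this using 1
  exact isRegularHom_localization C (C ⊗[A] R) T D n.primeCompl
    (M.map (Algebra.TensorProduct.comm A C R).symm.toRingEquiv.toMonoidHom) hW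

end Groth.Agent.FormalFibreQF
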