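import Mathlib
import Groth.Agent.FormalFibreQF.Finite
import Groth.Agent.Hensel.CplEquiv

/-!
# Formal fibres and quasi-finite algebras
-/

set_option autoImplicit false
universe u

open IsLocalRing

namespace Groth.Agent.FormalFibreQF

/-- Regularity of the completion map is invariant under ring isomorphisms. -/
theorem isRegularHom_cpl_of_ringEquiv {T T' : Type u} [CommRing T] [CommRing T'] [IsLocalRing T] [IsLocalRing T']
    [IsNoetherianRing T] (e : T ≃+* T') (h : CAlg.IsRegularHom T (EGA4.Cpl T)) :
    CAlg.IsRegularHom T' (EGA4.Cpl T') := by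
  have : IsNoetherianRing T' := isNoetherianRing_of_ringEquiv T e
  obtain ⟨hN', -, -⟩ := RegLocus.cpl_facts T'
  have : IsNoetherianRing (EGA4.Cpl T') := hN'
  letI : Algebra T T' := e.toRingHom.toAlgebra
  have hm : (maximalIdeal T).map (algebraMap T T') = maximalIdeal T' :=
    IsLocalRing.map_maximalIdeal_of_surjective _ e.surjective
  have hJ : ∀ k, (maximalIdeal T ^ k).map (algebraMap T T') = maximalIdeal T' ^ k := fun k => by
    rw [Ideal.map_pow, hm]
  obtain ⟨ε, hε⟩ := Hensel.exists_completion_equiv (maximalIdeal T) (maximalIdeal T') hJ (fun k => by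
    refine ⟨Ideal.quotientMap_injective' ?_, Ideal.quotientMap_surjective e.surjective⟩
    exact (Ideal.comap_map_of_bijective _ e.bijective).le)
  let W := EGA4.Cpl T
  letI : Algebra W (EGA4.Cpl T') := ε.toRingHom.toAlgebra
  have : IsScalarTower T W (EGA4.Cpl T') := IsScalarTower.of_algebraMap_eq (R := T) (S := W) (A := EGA4.Cpl T')
    fun t => ((hε t).trans rfl).symm
  have : IsLocalization (⊥ : Submonoid T) T' := by
    have : IsLocalization (⊥ : Submonoid T) T := IsLocalization.self bot_le
    exact IsLocalization.isLocalization_of_algEquiv (⊥ : Submonoid T)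
      (AlgEquiv.ofRingEquiv (f := e) fun _ => rfl : T ≃ₐ[T] T')
  have : IsLocalization (⊥ : Submonoid W) (EGA4.Cpl T') := by
    have : IsLocalization (⊥ : Submonoid W) W := IsLocalization.self bot_le
    exact IsLocalization.isLocalization_of_algEquiv (⊥ : Submonoid W)
      (AlgEquiv.ofRingEquiv (f := ε) fun _ => rfl : W ≃ₐ[W] EGA4.Cpl T')
  exact isRegularHom_localization T W T' (EGA4.Cpl T') ⊥ ⊥ h

/-- A quasi-finite point over a point with regular completion map has regular completion map. -/
theorem isRegularHom_cpl_quasiFinite (R R' : Type u) [CommRing R] [CommRing R'] [IsNoetherianRing R]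
    [Algebra R R'] [Algebra.FiniteType R R'] (p' : Ideal R') [p'.IsPrime] [Algebra.QuasiFiniteAt R p']
    (h : CAlg.IsRegularHom (Localization.AtPrime (p'.comap (algebraMap R R')))
      (EGA4.Cpl (Localization.AtPrime (p'.comap (algebraMap R R'))))) :
    CAlg.IsRegularHom (Localization.AtPrime p') (EGA4.Cpl (Localization.AtPrime p')) := by
  obtain ⟨S, hS, r, hr, hbij⟩ :=
    Algebra.QuasiFiniteAt.exists_fg_and_exists_notMem_and_awayMap_bijective (R := R) p'
  have : Module.Finite R S := ⟨(Submodule.fg_top _).mpr hS⟩
  have hrS : ∀ x : R', ∃ (b : S) (m : ℕ), (b : R') = (r : R') ^ m * x :=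
    Localization.awayMap_surjective_iff.1 hbij.2
  let p := p'.comap (algebraMap R R')
  let n0 := p'.comap (algebraMap S R')
  have : IsLocalization.AtPrime (Localization.AtPrime p') n0 := by
    refine (isLocalization_iff _ _).2 ⟨fun y => ?_, fun z => ?_, fun {x y} hxy => ?_⟩
    · rw [IsScalarTower.algebraMap_apply S R' (Localization.AtPrime p')]
      exact IsLocalization.map_units _ (⟨(y.1 : R'), y.2⟩ : p'.primeCompl)
    · obtain ⟨⟨a, t⟩, hat⟩ := IsLocalization.surj p'.primeCompl z
      obtain ⟨a', m, ha⟩ := hrS a
      obtain ⟨t', l, ht⟩ := hrS t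
      refine ⟨(a' * r ^ l, ⟨r ^ m * t', fun hm => ?_⟩), ?_⟩
      · have hm' : (r : R') ^ m * (t' : R') ∈ p' := hm
        rw [ht] at hm'
        rcases (‹p'.IsPrime›).mem_or_mem hm' with h1 | h1
        · exact hr (‹p'.IsPrime›.mem_of_pow_mem m h1)
        · rcases (‹p'.IsPrime›).mem_or_mem h1 with h2 | h2
          · exact hr (‹p'.IsPrime›.mem_of_pow_mem l h2)
          · exact t.2 h2
      · show z * algebraMap R' _ ((r : R') ^ m * (t' : R')) = algebraMap R' _ ((a' : R') * (r : R') ^ l)
        rw [ht, ha]
        simp only [map_mul]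
        rw [← hat]
        ring
    · rw [IsScalarTower.algebraMap_apply S R', IsScalarTower.algebraMap_apply S R' _ y] at hxy
      obtain ⟨t, ht⟩ := (IsLocalization.eq_iff_exists p'.primeCompl _).1 hxy
      obtain ⟨t', l, ht'⟩ := hrS t
      refine ⟨⟨t', fun hm => ?_⟩, Subtype.ext ?_⟩
      · have hm' : (t' : R') ∈ p' := hm
        rw [ht'] at hm'
        rcases (‹p'.IsPrime›).mem_or_mem hm' with h2 | h2
        · exact hr (‹p'.IsPrime›.mem_of_pow_mem l h2)
        · exact t.2 h2
      · show (t' : R') * (x : R') = (t' : R') * (y : R')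
        rw [ht', mul_assoc, mul_assoc]
        exact congrArg _ ht
  let M := Algebra.algebraMapSubmonoid S p.primeCompl
  let C := Localization M
  have : Module.Finite (Localization.AtPrime p) C := Module.Finite.of_isLocalization R S p.primeCompl
  have hn0 : n0.comap (algebraMap R S) = p := by
    show (p'.comap (algebraMap S R')).comap (algebraMap R S) = p
    rw [Ideal.comap_comap, ← IsScalarTower.algebraMap_eq]
  have hdisj : Disjoint (M : Set S) (n0 : Set S) := Set.disjoint_left.2 fun _ hs hsn => by
    obtain ⟨a, ha, rfl⟩ := hs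
    exact ha (hn0 ▸ (hsn : algebraMap R S a ∈ n0))
  let n : Ideal C := n0.map (algebraMap S C)
  have : n.IsPrime := IsLocalization.isPrime_of_isPrime_disjoint M C n0 inferInstance hdisj
  have hnc : n.comap (algebraMap S C) = n0 := IsLocalization.under_map_of_isPrime_disjoint M C inferInstance hdisj
  have : n.IsMaximal := by
    refine Ideal.isMaximal_of_isIntegral_of_isMaximal_comap (R := Localization.AtPrime p) n ?_
    have : n.comap (algebraMap (Localization.AtPrime p) C) = maximalIdeal (Localization.AtPrime p) := by
      rw [← IsLocalization.map_under p.primeCompl (Localization.AtPrime p) (n.comap _), Ideal.under, Ideal.comap_comap,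
        ← IsScalarTower.algebraMap_eq, IsScalarTower.algebraMap_eq R S C, ← Ideal.comap_comap, hnc, hn0]
      exact Localization.AtPrime.map_eq_maximalIdeal
    rw [this]; infer_instance
  have : IsNoetherianRing (Localization.AtPrime n) :=
    IsLocalization.isNoetherianRing n.primeCompl _ (IsNoetherianRing.of_finite (Localization.AtPrime p) C)
  have hC := isRegularHom_cpl_finite (Localization.AtPrime p) C n h
  have : IsLocalization.AtPrime (Localization.AtPrime n) n0 := by
    have := IsLocalization.isLocalization_isLocalization_atPrime_isLocalization M (Localization.AtPrime n) n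
    convert this using 2
    exact hnc.symm
  exact isRegularHom_cpl_of_ringEquiv
    (IsLocalization.algEquiv n0.primeCompl (Localization.AtPrime n) (Localization.AtPrime p')).toRingEquiv hC

end Groth.Agent.FormalFibreQF
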