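import Mathlib
import Groth.Agent.FormalFibreQF.QuasiFinite

/-!
# Single formal fibres and quasi-finite algebras
-/

set_option autoImplicit false
universe u

open TensorProduct IsLocalRing

namespace Groth.Agent.FormalFibreQF

/-- fibrewise version of `isRegularHom_localization` -/
theorem geomRegular_fibre_localization (C W T D : Type u) [CommRing C] [CommRing W] [CommRing T] [CommRing D]
    [Algebra C W] [Algebra C T] [Algebra W D] [Algebra C D] [Algebra T D]
    [IsScalarTower C W D] [IsScalarTower C T D] (N : Submonoid C) [IsLocalization N T]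
    (M : Submonoid W) [IsLocalization M D] (r : Ideal T) [r.IsPrime]
    (h : CAlg.IsGeometricallyRegular (r.comap (algebraMap C T)).ResidueField ((r.comap (algebraMap C T)).Fiber W)) :
    CAlg.IsGeometricallyRegular r.ResidueField (r.Fiber D) := by
  intro k' _ _ hfin
  let r0 := r.comap (algebraMap C T)
  have : r0.IsPrime := Ideal.IsPrime.comap _
  let i : r0.ResidueField →+* r.ResidueField := Ideal.ResidueField.map r0 r (algebraMap C T) rfl
  have hi : Function.Surjective i :=
    ((RingHom.surjectiveOnStalks_of_isLocalization N T).residueFieldMap_bijective r0 r rfl).2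
  letI : Algebra r0.ResidueField r.ResidueField := i.toAlgebra
  have : Module.Finite r0.ResidueField r.ResidueField := Module.Finite.of_surjective (Algebra.linearMap _ _) hi
  letI : Algebra r0.ResidueField k' := ((algebraMap r.ResidueField k').comp i).toAlgebra
  have : IsScalarTower r0.ResidueField r.ResidueField k' := IsScalarTower.of_algebraMap_eq fun _ => rfl
  have hfin0 : Module.Finite r0.ResidueField k' := Module.Finite.trans r.ResidueField k'
  letI : Algebra T k' := ((algebraMap r.ResidueField k').comp (algebraMap T r.ResidueField)).toAlgebra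
  have : IsScalarTower T r.ResidueField k' := IsScalarTower.of_algebraMap_eq fun _ => rfl
  letI : Algebra C k' := ((algebraMap T k').comp (algebraMap C T)).toAlgebra
  have : IsScalarTower C T k' := IsScalarTower.of_algebraMap_eq fun _ => rfl
  have : IsScalarTower C r0.ResidueField k' := IsScalarTower.of_algebraMap_eq fun c => by
    show algebraMap r.ResidueField k' (algebraMap T r.ResidueField (algebraMap C T c)) =
      algebraMap r.ResidueField k' (i (algebraMap C r0.ResidueField c))
    rw [Ideal.ResidueField.map_algebraMap]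
  have hW : IsRegularRing (W ⊗[C] k') :=
    RegLocus.isRegularRing_of_ringEquiv'
      ((Algebra.TensorProduct.cancelBaseChange C r0.ResidueField r0.ResidueField k' W).toRingEquiv.trans
        (Algebra.TensorProduct.comm C k' W).toRingEquiv) (h k' hfin0)
  letI : Algebra (W ⊗[C] k') (D ⊗[W] (W ⊗[C] k')) := Algebra.TensorProduct.rightAlgebra
  have : IsLocalization (Algebra.algebraMapSubmonoid (W ⊗[C] k') M) (D ⊗[W] (W ⊗[C] k')) := inferInstance
  have h1 : IsRegularRing (D ⊗[W] (W ⊗[C] k')) :=
    SymGr.isRegularRing_of_isLocalization (Algebra.algebraMapSubmonoid (W ⊗[C] k') M)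
  have : TensorProduct.CompatibleSMul C T k' D := IsLocalization.tensorProduct_compatibleSMul N T _ _
  exact RegLocus.isRegularRing_of_ringEquiv'
    (((((Algebra.TensorProduct.cancelBaseChange C W W D k').toRingEquiv).trans
      (Algebra.TensorProduct.comm C D k').toRingEquiv).trans
      (Algebra.TensorProduct.equivOfCompatibleSMul C T k' k' D).toRingEquiv.symm).trans
      (Algebra.TensorProduct.cancelBaseChange T r.ResidueField r.ResidueField k' D).symm.toRingEquiv) h1


/-- fibrewise version of `isRegularHom_cpl_finite` -/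
theorem geomRegular_formalFibre_finite (A C : Type u) [CommRing A] [IsNoetherianRing A] [IsLocalRing A]
    [CommRing C] [Algebra A C] [Module.Finite A C] (n : Ideal C) [n.IsMaximal]
    (Q2 : Ideal (Localization.AtPrime n)) [Q2.IsPrime]
    (h : CAlg.IsGeometricallyRegular ((Q2.comap (algebraMap C (Localization.AtPrime n))).comap (algebraMap A C)).ResidueField
      (((Q2.comap (algebraMap C (Localization.AtPrime n))).comap (algebraMap A C)).Fiber (EGA4.Cpl A))) :
    CAlg.IsGeometricallyRegular Q2.ResidueField (Q2.Fiber (EGA4.Cpl (Localization.AtPrime n))) := by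
  obtain ⟨hcN, hff, -⟩ := RegLocus.cpl_facts A
  have : IsNoetherianRing C := IsNoetherianRing.of_finite A C
  let T := Localization.AtPrime n
  have : IsNoetherianRing T := IsLocalization.isNoetherianRing n.primeCompl _ ‹_›
  obtain ⟨hDN, hDff, -⟩ := RegLocus.cpl_facts T
  let R := EGA4.Cpl A
  let D := EGA4.Cpl T
  have : IsNoetherianRing R := hcN
  have : IsNoetherianRing D := hDN
  have hn : n.comap (algebraMap A C) = maximalIdeal A :=
    eq_maximalIdeal (Ideal.isMaximal_comap_of_isIntegral_of_isMaximal n)
  have hRm : maximalIdeal R = (maximalIdeal A).map (algebraMap A R) := AdicCompletion.maximalIdeal_eq_map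
  have hTm : maximalIdeal T = n.map (algebraMap C T) := (Localization.AtPrime.map_eq_maximalIdeal).symm
  have hDT : maximalIdeal D = (maximalIdeal T).map (algebraMap T D) := AdicCompletion.maximalIdeal_eq_map
  have hDm : maximalIdeal D = n.map (algebraMap C D) :=
    hDT.trans ((congrArg (Ideal.map (algebraMap T D)) hTm).trans (by rw [Ideal.map_map, ← IsScalarTower.algebraMap_eq]))
  obtain ⟨ρ0⟩ := RegLocus.exists_cplMap A T (maximalIdeal A) (maximalIdeal T) (by
    rw [← hn, IsScalarTower.algebraMap_eq A C T, ← Ideal.map_map, hTm]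
    exact Ideal.map_mono Ideal.map_comap_le)
  obtain ⟨φ, hφC, -, hloc, -⟩ := SymGr.exists_iso_completion (A := A) (B := C) (R := R) (D := D) n
    (fun k r => by
      obtain ⟨a, ha⟩ := RegLocus.exists_approx A k r
      refine ⟨a, 1, fun h => ‹n.IsMaximal›.ne_top ((Ideal.eq_top_iff_one n).2 (by simpa using h)), ?_⟩
      rwa [map_one, mul_one, hRm])
    (by rw [hn]; exact hRm)
    (fun b hb => by
      rw [IsScalarTower.algebraMap_apply C T D]
      exact (IsLocalization.map_units T (⟨b, hb⟩ : n.primeCompl)).map _)
    hDm
    (fun k d => by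
      obtain ⟨x, hx⟩ := RegLocus.exists_approx T k d
      obtain ⟨⟨b, t⟩, ht⟩ := IsLocalization.surj n.primeCompl x
      refine ⟨b, t, t.2, ?_⟩
      rw [IsScalarTower.algebraMap_apply C T D, IsScalarTower.algebraMap_apply C T D b, ← ht, map_mul, ← sub_mul, hDT]
      exact Ideal.mul_mem_right _ _ hx)
    (fun k b hb => by
      rw [hDm, ← Ideal.map_pow, IsScalarTower.algebraMap_eq C T D, ← Ideal.map_map, RingHom.comp_apply,
        ← Ideal.mem_comap, Ideal.comap_map_eq_self_of_faithfullyFlat,
        IsLocalization.algebraMap_mem_map_algebraMap_iff n.primeCompl] at hb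
      exact hb)
    ρ0
  have : IsNoetherianRing (C ⊗[A] R) := RegLocus.isNoetherianRing_tensor_of_ft A R C (Or.inr inferInstance)
  letI : Algebra (R ⊗[A] C) D := (φ : R ⊗[A] C →+* D).toAlgebra
  letI : Algebra (C ⊗[A] R) D :=
    ((φ : R ⊗[A] C →+* D).comp (Algebra.TensorProduct.comm A C R).toRingEquiv.toRingHom).toAlgebra
  have : IsScalarTower C (C ⊗[A] R) D := IsScalarTower.of_algebraMap_eq (R := C) (S := C ⊗[A] R) (A := D) fun c => by
    show algebraMap C D c = φ ((Algebra.TensorProduct.comm A C R) (c ⊗ₜ 1))
    rw [Algebra.TensorProduct.comm_tmul, hφC]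
  let M := ((maximalIdeal D).comap φ).primeCompl
  have hloc' : IsLocalization (M.map (Algebra.TensorProduct.comm A C R).symm.toRingEquiv.toMonoidHom) D := by
    have := IsLocalization.isLocalization_of_base_ringEquiv M D (Algebra.TensorProduct.comm A C R).symm.toRingEquiv
    convert! this using 1
  refine geomRegular_fibre_localization C (C ⊗[A] R) T D n.primeCompl
    (M.map (Algebra.TensorProduct.comm A C R).symm.toRingEquiv.toMonoidHom) Q2 ?_
  let Q1 := Q2.comap (algebraMap C T)
  have hQ1 : Q1.IsPrime := Ideal.IsPrime.comap _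
  have hN' := RegLocus.isNoetherianRing_fiber C (C ⊗[A] R) Q1
  refine RegLocus.fibre_baseChange (fun R _ => IsRegularRing R) RegLocus.isRegularRing_of_ringEquiv' A R C Q1 hN' ?_
  intro K _ _ _
  have := RegLocus.isNoetherianRing_fiber A R (Q1.comap (algebraMap A C))
  exact RegLocus.isRegularRing_any _ _ h K


/-- fibrewise transfer along a ring isomorphism -/
theorem geomRegular_formalFibre_of_ringEquiv {T T' : Type u} [CommRing T] [CommRing T'] [IsLocalRing T] [IsLocalRing T']
    [IsNoetherianRing T] (e : T ≃+* T') (Q' : Ideal T') [Q'.IsPrime]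
    (h : CAlg.IsGeometricallyRegular (Q'.comap e.toRingHom).ResidueField ((Q'.comap e.toRingHom).Fiber (EGA4.Cpl T))) :
    CAlg.IsGeometricallyRegular Q'.ResidueField (Q'.Fiber (EGA4.Cpl T')) := by
  have : IsNoetherianRing T' := isNoetherianRing_of_ringEquiv T e
  obtain ⟨hN', -, -⟩ := RegLocus.cpl_facts T'
  have : IsNoetherianRing (EGA4.Cpl T') := hN'
  letI : Algebra T T' := e.toRingHom.toAlgebra
  have hm : (maximalIdeal T).map (algebraMap T T') = maximalIdeal T' :=
    IsLocalRing.map_maximalIdeal_of_surjective _ e.surjective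
  have hJ : ∀ k, (maximalIdeal T ^ k).map (algebraMap T T') = maximalIdeal T' ^ k := fun k => by
    rw [Ideal.map_pow, hm]
  obtain ⟨ε, hε⟩ := Hensel.exists_completion_equiv (maximalIdeal T) (maximalIdeal T') hJ (fun k => by
    refine ⟨Ideal.quotientMap_injective' ?_, Ideal.quotientMap_surjective e.surjective⟩
    exact (Ideal.comap_map_of_bijective _ e.bijective).le)
  let W := EGA4.Cpl T
  letI : Algebra W (EGA4.Cpl T') := ε.toRingHom.toAlgebra
  have : IsScalarTower T W (EGA4.Cpl T') := IsScalarTower.of_algebraMap_eq (R := T) (S := W) (A := EGA4.Cpl T')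
    fun t => ((hε t).trans rfl).symm
  have : IsLocalization (⊥ : Submonoid T) T' := by
    have : IsLocalization (⊥ : Submonoid T) T := IsLocalization.self bot_le
    exact IsLocalization.isLocalization_of_algEquiv (⊥ : Submonoid T)
      (AlgEquiv.ofRingEquiv (f := e) fun _ => rfl : T ≃ₐ[T] T')
  have : IsLocalization (⊥ : Submonoid W) (EGA4.Cpl T') := by
    have : IsLocalization (⊥ : Submonoid W) W := IsLocalization.self bot_le
    exact IsLocalization.isLocalization_of_algEquiv (⊥ : Submonoid W)
      (AlgEquiv.ofRingEquiv (f := ε) fun _ => rfl : W ≃ₐ[W] EGA4.Cpl T')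
  exact geomRegular_fibre_localization T W T' (EGA4.Cpl T') ⊥ ⊥ Q' h


/-- fibrewise version of `isRegularHom_cpl_quasiFinite` -/
theorem geomRegular_formalFibre_quasiFinite (R R' : Type u) [CommRing R] [CommRing R'] [IsNoetherianRing R]
    [Algebra R R'] [Algebra.FiniteType R R'] (p' : Ideal R') [p'.IsPrime] [Algebra.QuasiFiniteAt R p']
    (Q' : Ideal (Localization.AtPrime p')) [Q'.IsPrime]
    (Q : Ideal (Localization.AtPrime (p'.comap (algebraMap R R')))) [Q.IsPrime]
    (hQ : Q.comap (algebraMap R (Localization.AtPrime (p'.comap (algebraMap R R')))) =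
      Q'.comap (algebraMap R (Localization.AtPrime p')))
    (h : CAlg.IsGeometricallyRegular Q.ResidueField (Q.Fiber (EGA4.Cpl (Localization.AtPrime (p'.comap (algebraMap R R')))))) :
    CAlg.IsGeometricallyRegular Q'.ResidueField (Q'.Fiber (EGA4.Cpl (Localization.AtPrime p'))) := by
  obtain ⟨S, hS, r, hr, hbij⟩ :=
    Algebra.QuasiFiniteAt.exists_fg_and_exists_notMem_and_awayMap_bijective (R := R) p'
  have : Module.Finite R S := ⟨(Submodule.fg_top _).mpr hS⟩
  have hrS : ∀ x : R', ∃ (b : S) (m : ℕ), (b : R') = (r : R') ^ m * x :=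
    Localization.awayMap_surjective_iff.1 hbij.2
  let p := p'.comap (algebraMap R R')
  let n0 := p'.comap (algebraMap S R')
  have : IsLocalization.AtPrime (Localization.AtPrime p') n0 := by
    refine (isLocalization_iff _ _).2 ⟨fun y => ?_, fun z => ?_, fun {x y} hxy => ?_⟩
    · rw [IsScalarTower.algebraMap_apply S R' (Localization.AtPrime p')]
      exact IsLocalization.map_units _ (⟨(y.1 : R'), y.2⟩ : p'.primeCompl)
    · obtain ⟨⟨a, t⟩, hat⟩ := IsLocalization.surj p'.primeCompl z
      obtain ⟨a', m, ha⟩ := hrS a
      obtain ⟨t', l, ht⟩ := hrS t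
      refine ⟨(a' * r ^ l, ⟨r ^ m * t', fun hm => ?_⟩), ?_⟩
      · have hm' : (r : R') ^ m * (t' : R') ∈ p' := hm
        rw [ht] at hm'
        rcases (‹p'.IsPrime›).mem_or_mem hm' with h1 | h1
        · exact hr (‹p'.IsPrime›.mem_of_pow_mem m h1)
        · rcases (‹p'.IsPrime›).mem_or_mem h1 with h2 | h2
          · exact hr (‹p'.IsPrime›.mem_of_pow_mem l h2)
          · exact t.2 h2
      · show z * algebraMap R' _ ((r : R') ^ m * (t' : R')) = algebraMap R' _ ((a' : R') * (r : R') ^ l)
        rw [ht, ha]
        simp only [map_mul]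
        rw [← hat]
        ring
    · rw [IsScalarTower.algebraMap_apply S R', IsScalarTower.algebraMap_apply S R' _ y] at hxy
      obtain ⟨t, ht⟩ := (IsLocalization.eq_iff_exists p'.primeCompl _).1 hxy
      obtain ⟨t', l, ht'⟩ := hrS t
      refine ⟨⟨t', fun hm => ?_⟩, Subtype.ext ?_⟩
      · have hm' : (t' : R') ∈ p' := hm
        rw [ht'] at hm'
        rcases (‹p'.IsPrime›).mem_or_mem hm' with h2 | h2
        · exact hr (‹p'.IsPrime›.mem_of_pow_mem l h2)
        · exact t.2 h2
      · show (t' : R') * (x : R') = (t' : R') * (y : R')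
        rw [ht', mul_assoc, mul_assoc]
        exact congrArg _ ht
  let M := Algebra.algebraMapSubmonoid S p.primeCompl
  let C := Localization M
  have : Module.Finite (Localization.AtPrime p) C := Module.Finite.of_isLocalization R S p.primeCompl
  have hn0 : n0.comap (algebraMap R S) = p := by
    show (p'.comap (algebraMap S R')).comap (algebraMap R S) = p
    rw [Ideal.comap_comap, ← IsScalarTower.algebraMap_eq]
  have hdisj : Disjoint (M : Set S) (n0 : Set S) := Set.disjoint_left.2 fun _ hs hsn => by
    obtain ⟨a, ha, rfl⟩ := hs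
    exact ha (hn0 ▸ (hsn : algebraMap R S a ∈ n0))
  let n : Ideal C := n0.map (algebraMap S C)
  have : n.IsPrime := IsLocalization.isPrime_of_isPrime_disjoint M C n0 inferInstance hdisj
  have hnc : n.comap (algebraMap S C) = n0 := IsLocalization.under_map_of_isPrime_disjoint M C inferInstance hdisj
  have : n.IsMaximal := by
    refine Ideal.isMaximal_of_isIntegral_of_isMaximal_comap (R := Localization.AtPrime p) n ?_
    have : n.comap (algebraMap (Localization.AtPrime p) C) = maximalIdeal (Localization.AtPrime p) := by
      rw [← IsLocalization.map_under p.primeCompl (Localization.AtPrime p) (n.comap _), Ideal.under, Ideal.comap_comap,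
        ← IsScalarTower.algebraMap_eq, IsScalarTower.algebraMap_eq R S C, ← Ideal.comap_comap, hnc, hn0]
      exact Localization.AtPrime.map_eq_maximalIdeal
    rw [this]; infer_instance
  have : IsNoetherianRing (Localization.AtPrime n) :=
    IsLocalization.isNoetherianRing n.primeCompl _ (IsNoetherianRing.of_finite (Localization.AtPrime p) C)
  have : IsLocalization.AtPrime (Localization.AtPrime n) n0 := by
    have := IsLocalization.isLocalization_isLocalization_atPrime_isLocalization M (Localization.AtPrime n) n
    convert this using 2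
    exact hnc.symm
  let e := IsLocalization.algEquiv n0.primeCompl (Localization.AtPrime n) (Localization.AtPrime p')
  refine geomRegular_formalFibre_of_ringEquiv (T := Localization.AtPrime n) (T' := Localization.AtPrime p') e.toRingEquiv Q' ?_
  let Q2 := Q'.comap e.toRingEquiv.toRingHom
  have hQ2 : Q2.IsPrime := Ideal.IsPrime.comap _
  refine geomRegular_formalFibre_finite (Localization.AtPrime p) C n Q2 ?_
  have key : (Q2.comap (algebraMap C (Localization.AtPrime n))).comap (algebraMap (Localization.AtPrime p) C) = Q := by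
    rw [← IsLocalization.map_under p.primeCompl (Localization.AtPrime p) ((Q2.comap _).comap _),
      ← IsLocalization.map_under p.primeCompl (Localization.AtPrime p) Q]
    congr 1
    refine Eq.trans ?_ hQ.symm
    ext a
    show e (algebraMap C _ (algebraMap (Localization.AtPrime p) C (algebraMap R _ a))) ∈ Q' ↔ algebraMap R _ a ∈ Q'
    rw [← IsScalarTower.algebraMap_apply R (Localization.AtPrime p) C, IsScalarTower.algebraMap_apply R S C,
      ← IsScalarTower.algebraMap_apply S C (Localization.AtPrime n), e.commutes,
      ← IsScalarTower.algebraMap_apply R S (Localization.AtPrime p')]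
  subst key
  exact h

end Groth.Agent.FormalFibreQF
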