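import Mathlib
import Groth.Agent.FormalFibreQF.Pointwise
import Groth.Agent.RegLocus.NagataGlobal
import Groth.Agent.S4737

/-!
# Formal fibres and quotients by primes
-/

set_option autoImplicit false
universe u

open TensorProduct IsLocalRing

namespace Groth.Agent.FormalFibreQF

theorem transfer_regular {A' U V : Type u} [CommRing A'] [CommRing U] [CommRing V] [Algebra A' U] [Algebra A' V]
    (e : U ≃ₐ[A'] V) (p' : Ideal A') [p'.IsPrime] (k' : Type u) [Field k'] [Algebra p'.ResidueField k']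
    (h : IsRegularRing (k' ⊗[p'.ResidueField] p'.Fiber V)) : IsRegularRing (k' ⊗[p'.ResidueField] p'.Fiber U) := by
  obtain ⟨e2⟩ := S4737.transfer A' U V p' k' e
  exact RegLocus.isRegularRing_of_ringEquiv' e2.symm h

theorem geomRegular_formalFibre_quotient_iff (A : Type u) [CommRing A] [IsNoetherianRing A] [IsLocalRing A]
    (Q : Ideal A) [Q.IsPrime] :
    CAlg.IsGeometricallyRegular (⊥ : Ideal (A ⧸ Q)).ResidueField ((⊥ : Ideal (A ⧸ Q)).Fiber (EGA4.Cpl (A ⧸ Q))) ↔
      CAlg.IsGeometricallyRegular Q.ResidueField (Q.Fiber (EGA4.Cpl A)) := by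
  obtain ⟨hcN, -, -⟩ := RegLocus.cpl_facts A
  obtain ⟨hcN', -, -⟩ := RegLocus.cpl_facts (A ⧸ Q)
  have := hcN
  have := hcN'
  obtain ⟨e⟩ := RegLocus.cplQuotient_equiv A Q
  have : IsNoetherianRing ((A ⧸ Q) ⊗[A] EGA4.Cpl A) := isNoetherianRing_of_ringEquiv _ e.symm.toRingEquiv
  have hN := RegLocus.isNoetherianRing_fiber (A ⧸ Q) ((A ⧸ Q) ⊗[A] EGA4.Cpl A) (⊥ : Ideal (A ⧸ Q))
  have key : ∀ (q : Ideal A) (_ : q.IsPrime), q = (⊥ : Ideal (A ⧸ Q)).comap (algebraMap A (A ⧸ Q)) →
      (CAlg.IsGeometricallyRegular (⊥ : Ideal (A ⧸ Q)).ResidueField ((⊥ : Ideal (A ⧸ Q)).Fiber (EGA4.Cpl (A ⧸ Q))) ↔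
        CAlg.IsGeometricallyRegular q.ResidueField (q.Fiber (EGA4.Cpl A))) := by
    rintro q hq rfl
    have := RegLocus.isNoetherianRing_fiber A (EGA4.Cpl A) ((⊥ : Ideal (A ⧸ Q)).comap (algebraMap A (A ⧸ Q)))
    constructor
    · intro h k _ _ hk
      refine RegLocus.fibre_descend (fun R _ => IsRegularRing R) RegLocus.isRegularRing_of_ringEquiv'
        (fun A B _ _ _ _ _ _ => RegLocus.isRegularRing_descend A B) A (EGA4.Cpl A) (A ⧸ Q) (⊥ : Ideal (A ⧸ Q)) (fun k' _ _ hk' => ?_) k hk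
      exact transfer_regular e _ k' (h k' hk')
    · intro h k' _ _ hk'
      obtain ⟨e2⟩ := S4737.transfer (A ⧸ Q) ((A ⧸ Q) ⊗[A] EGA4.Cpl A) (EGA4.Cpl (A ⧸ Q)) ⊥ k' e
      refine RegLocus.isRegularRing_of_ringEquiv' e2 (RegLocus.fibre_baseChange (fun R _ => IsRegularRing R)
        RegLocus.isRegularRing_of_ringEquiv' A (EGA4.Cpl A) (A ⧸ Q) ⊥ hN (fun K _ _ _ => ?_) k' hk')
      exact RegLocus.isRegularRing_any _ _ h K
  exact key Q inferInstance (by rw [← RingHom.ker_eq_comap_bot, Ideal.Quotient.algebraMap_eq, Ideal.mk_ker])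

theorem geomRegular_bot_transfer {T T' : Type u} [CommRing T] [CommRing T'] [IsDomain T] [IsDomain T']
    [IsLocalRing T] [IsLocalRing T'] [IsNoetherianRing T] (e : T ≃+* T')
    (h : CAlg.IsGeometricallyRegular (⊥ : Ideal T).ResidueField ((⊥ : Ideal T).Fiber (EGA4.Cpl T))) :
    CAlg.IsGeometricallyRegular (⊥ : Ideal T').ResidueField ((⊥ : Ideal T').Fiber (EGA4.Cpl T')) := by
  have hb : (⊥ : Ideal T) = (⊥ : Ideal T').comap e.toRingHom := by
    rw [← RingHom.ker_eq_comap_bot]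
    exact ((RingHom.injective_iff_ker_eq_bot _).1 e.injective).symm
  refine geomRegular_formalFibre_of_ringEquiv e ⊥ ?_
  have key : ∀ (q : Ideal T) (_ : q.IsPrime), q = (⊥ : Ideal T').comap e.toRingHom →
      CAlg.IsGeometricallyRegular q.ResidueField (q.Fiber (EGA4.Cpl T)) →
      CAlg.IsGeometricallyRegular ((⊥ : Ideal T').comap e.toRingHom).ResidueField
        (((⊥ : Ideal T').comap e.toRingHom).Fiber (EGA4.Cpl T)) := by
    rintro q hq rfl h
    exact h
  exact key ⊥ Ideal.isPrime_bot hb h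

theorem isGRing_iff_generic (R : Type u) [CommRing R] [IsNoetherianRing R] :
    CAlg.IsGRing R ↔ ∀ (q : Ideal R) [q.IsPrime] (P : Ideal (R ⧸ q)) [P.IsPrime],
        CAlg.IsGeometricallyRegular (⊥ : Ideal (Localization.AtPrime P)).ResidueField
          ((⊥ : Ideal (Localization.AtPrime P)).Fiber (EGA4.Cpl (Localization.AtPrime P))) := by
  constructor
  · intro h q _ P _
    let p := P.comap (Ideal.Quotient.mk q)
    have hqp : q ≤ p := fun x hx => by
      show Ideal.Quotient.mk q x ∈ P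
      rw [Ideal.Quotient.eq_zero_iff_mem.2 hx]; exact zero_mem _
    let A := Localization.AtPrime p
    let Q := q.map (algebraMap R A)
    have hQ : Q.IsPrime := IsLocalization.isPrime_of_isPrime_disjoint p.primeCompl A q ‹_›
      (Set.disjoint_left.2 fun x hx hxq => hx (hqp hxq))
    obtain ⟨e⟩ := RegLocus.localQuot_equiv R q p P rfl
    have : IsNoetherianRing (A ⧸ Q) := inferInstance
    exact geomRegular_bot_transfer e ((geomRegular_formalFibre_quotient_iff A Q).2 ((h.2 p).2 Q).2)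
  · intro h
    refine ⟨inferInstance, fun p _ => ?_⟩
    let A := Localization.AtPrime p
    obtain ⟨hcN, hff, -⟩ := RegLocus.cpl_facts A
    have := hcN
    have := hff
    refine ⟨inferInstance, fun Q _ => ⟨RegLocus.isNoetherianRing_fiber A _ Q, ?_⟩⟩
    let q := Q.comap (algebraMap R A)
    have hqp : q ≤ p := fun x hx => by
      by_contra hxp
      exact (‹Q.IsPrime›).ne_top (Ideal.eq_top_of_isUnit_mem _ hx (IsLocalization.map_units A (⟨x, hxp⟩ : p.primeCompl)))
    let P := p.map (Ideal.Quotient.mk q)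
    have hP : P.IsPrime := Ideal.map_isPrime_of_surjective Ideal.Quotient.mk_surjective (by rwa [Ideal.mk_ker])
    have hPc : P.comap (Ideal.Quotient.mk q) = p := by
      rw [Ideal.comap_map_of_surjective _ Ideal.Quotient.mk_surjective, ← RingHom.ker_eq_comap_bot, Ideal.mk_ker,
        sup_eq_left.2 hqp]
    obtain ⟨e⟩ := RegLocus.localQuot_equiv R q p P hPc
    let e' : (A ⧸ Q) ≃+* Localization.AtPrime P :=
      (Ideal.quotEquivOfEq (IsLocalization.map_under p.primeCompl A Q).symm).trans e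
    exact (geomRegular_formalFibre_quotient_iff A Q).1 (geomRegular_bot_transfer e'.symm (h q P))

end Groth.Agent.FormalFibreQF
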