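import Mathlib
import Groth.Agent.FormalFibreQF.QuasiFinite
import Groth.Agent.RegLocus.CompleteG

/-!
# Geometric regularity of formal fibres through finite free algebras
-/

set_option autoImplicit false
universe u

open TensorProduct IsLocalRing

namespace Groth.Agent.FormalFibreQF

/-- finitely many integral elements lie in the image of a finite free algebra -/
theorem exists_finiteFree (R : Type u) [CommRing R] (L : Type u) [CommRing L] [Algebra R L] (s : Finset L)
    (hs : ∀ x ∈ s, IsIntegral R x) :
    ∃ (S : Type u) (_ : CommRing S) (_ : Algebra R S) (ψ : S →ₐ[R] L),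
      Module.Finite R S ∧ Module.Free R S ∧ ∀ x ∈ s, x ∈ ψ.range := by
  classical
  induction s using Finset.induction_on with
  | empty => exact ⟨R, inferInstance, inferInstance, Algebra.ofId R L, inferInstance, inferInstance, by simp⟩
  | insert x s hx ih =>
    obtain ⟨S, _, _, ψ, hfin, hfree, hψ⟩ := ih fun y hy => hs y (Finset.mem_insert_of_mem hy)
    obtain ⟨f, hf, hfx⟩ := hs x (Finset.mem_insert_self _ _)
    let g := f.map (algebraMap R S)
    have hg : g.Monic := hf.map _
    have hgx : g.eval₂ ψ.toRingHom x = 0 := by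
      rw [Polynomial.eval₂_map, show ψ.toRingHom.comp (algebraMap R S) = algebraMap R L from ψ.comp_algebraMap]
      exact hfx
    have : Module.Finite S (AdjoinRoot g) := (AdjoinRoot.powerBasis' hg).finite
    have : Module.Free S (AdjoinRoot g) := Module.Free.of_basis (AdjoinRoot.powerBasis' hg).basis
    let χ : AdjoinRoot g →ₐ[R] L :=
      { AdjoinRoot.lift ψ.toRingHom x hgx with
        commutes' := fun r => by
          show AdjoinRoot.lift ψ.toRingHom x hgx (algebraMap R (AdjoinRoot g) r) = _
          rw [IsScalarTower.algebraMap_apply R S (AdjoinRoot g), AdjoinRoot.algebraMap_eq, AdjoinRoot.lift_of]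
          exact ψ.commutes r }
    refine ⟨AdjoinRoot g, inferInstance, inferInstance, χ, Module.Finite.trans S _, Module.Free.trans (R := R) (S := S) (M := AdjoinRoot g),
      fun y hy => ?_⟩
    rcases Finset.mem_insert.1 hy with rfl | hy
    · exact ⟨AdjoinRoot.root g, AdjoinRoot.lift_root hgx⟩
    · obtain ⟨z, rfl⟩ := hψ y hy
      exact ⟨AdjoinRoot.of g z, AdjoinRoot.lift_of hgx⟩

/-- approximation in the completion of a localisation -/
theorem exists_approx_atPrime (R : Type u) [CommRing R] [IsNoetherianRing R] (p : Ideal R) [p.IsPrime] (k : ℕ)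
    (x : EGA4.Cpl (Localization.AtPrime p)) :
    ∃ a t : R, t ∉ p ∧ x * algebraMap R _ t - algebraMap R _ a ∈ maximalIdeal (EGA4.Cpl (Localization.AtPrime p)) ^ k := by
  obtain ⟨y, hy⟩ := RegLocus.exists_approx (Localization.AtPrime p) k x
  obtain ⟨⟨a, t⟩, ht⟩ := IsLocalization.surj p.primeCompl y
  refine ⟨a, t, t.2, ?_⟩
  rw [IsScalarTower.algebraMap_apply R (Localization.AtPrime p) (EGA4.Cpl (Localization.AtPrime p)),
    IsScalarTower.algebraMap_apply R (Localization.AtPrime p) (EGA4.Cpl (Localization.AtPrime p)) a, ← ht, map_mul,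
    ← sub_mul, AdicCompletion.maximalIdeal_eq_map]
  exact Ideal.mul_mem_right _ _ hy

/-- transport regularity from `L ⊗[T] D` to a prime of `W ⊗[S] L` -/
theorem regular_at_of_tensor (S T W D L : Type u) [CommRing S] [CommRing T] [CommRing W] [CommRing D] [CommRing L]
    [Algebra S W] [Algebra S T] [Algebra S L] [Algebra T L] [IsScalarTower S T L] [Algebra W D] [Algebra S D]
    [IsScalarTower S W D] [Algebra T D] [IsScalarTower S T D] (N : Submonoid S) [IsLocalization N T]
    (m : Ideal W) [m.IsPrime] (hloc : IsLocalization m.primeCompl D) (h : IsRegularRing (L ⊗[T] D))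
    (P : Ideal (W ⊗[S] L)) [P.IsPrime] (hP : P.comap (algebraMap W (W ⊗[S] L)) ≤ m) :
    IsRegularLocalRing (Localization.AtPrime P) := by
  have := hloc
  have : TensorProduct.CompatibleSMul S T L D := IsLocalization.tensorProduct_compatibleSMul N T _ _
  letI : Algebra (W ⊗[S] L) (D ⊗[W] (W ⊗[S] L)) := Algebra.TensorProduct.rightAlgebra
  have hbig : IsRegularRing (D ⊗[W] (W ⊗[S] L)) :=
    RegLocus.isRegularRing_of_ringEquiv'
      ((((Algebra.TensorProduct.cancelBaseChange S W W D L).toRingEquiv).trans
        (Algebra.TensorProduct.comm S D L).toRingEquiv).trans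
        (Algebra.TensorProduct.equivOfCompatibleSMul S T L L D).toRingEquiv.symm).symm h
  exact RegLocus.geomRegular_of_localizations.regular_at_of_localization (W ⊗[S] L) (D ⊗[W] (W ⊗[S] L))
    (Algebra.algebraMapSubmonoid (W ⊗[S] L) m.primeCompl) hbig P
    (Set.disjoint_left.2 fun s hs hsP => by
      obtain ⟨x, hx, rfl⟩ := hs
      exact hx (hP hsP))

/-- core: regularity of all formal fibres of a finite algebra gives regularity after extending the residue field -/
theorem isRegularRing_tensor_cpl (R S : Type u) [CommRing R] [IsNoetherianRing R] [CommRing S] [Algebra R S]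
    [Module.Finite R S] (L : Type u) [Field L] [Algebra S L] [Algebra R L] [IsScalarTower R S L]
    (hgen : ∀ x : L, ∃ a b : S, algebraMap S L b ≠ 0 ∧ x = algebraMap S L a / algebraMap S L b)
    (p : Ideal R) [p.IsPrime]
    (h : ∀ (n : Ideal S) [n.IsPrime] (P : Ideal (Localization.AtPrime n)) [P.IsPrime],
      IsRegularRing (EGA4.formalFibre (Localization.AtPrime n) P)) :
    IsRegularRing (L ⊗[R] EGA4.Cpl (Localization.AtPrime p)) := by
  let A := EGA4.Cpl (Localization.AtPrime p)
  obtain ⟨hAN, -, -⟩ := RegLocus.cpl_facts (Localization.AtPrime p)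
  have : IsNoetherianRing A := hAN
  have : IsNoetherianRing S := IsNoetherianRing.of_finite R S
  let W := A ⊗[R] S
  letI : Algebra S W := Algebra.TensorProduct.rightAlgebra
  have hWS : ∀ s : S, algebraMap S W s = (1 : A) ⊗ₜ[R] s := fun s => rfl
  have : IsScalarTower R S W := IsScalarTower.of_algebraMap_eq fun r => by
    rw [hWS, Algebra.TensorProduct.algebraMap_apply]
    exact Algebra.TensorProduct.tmul_one_eq_one_tmul r
  have : IsNoetherianRing W := IsNoetherianRing.of_finite A W
  have : Algebra.EssFiniteType S L := by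
    let q := RingHom.ker (algebraMap S L)
    have : q.IsPrime := RingHom.ker_isPrime _
    letI : Algebra (S ⧸ q) L := (Ideal.Quotient.lift q (algebraMap S L) fun a ha => ha).toAlgebra
    have : IsScalarTower S (S ⧸ q) L := IsScalarTower.of_algebraMap_eq fun _ => rfl
    have : FaithfulSMul (S ⧸ q) L := (faithfulSMul_iff_algebraMap_injective _ _).2
      (RingHom.lift_injective_of_ker_le_ideal q _ le_rfl)
    have : IsFractionRing (S ⧸ q) L := IsFractionRing.of_field _ _ fun z => by
      obtain ⟨a, b, -, rfl⟩ := hgen z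
      exact ⟨Ideal.Quotient.mk q a, Ideal.Quotient.mk q b, rfl⟩
    have : Algebra.EssFiniteType (S ⧸ q) L := Algebra.EssFiniteType.of_isLocalization _ (nonZeroDivisors (S ⧸ q))
    exact Algebra.EssFiniteType.comp S (S ⧸ q) L
  have : IsNoetherianRing (W ⊗[S] L) := Algebra.EssFiniteType.isNoetherianRing W (W ⊗[S] L)
  suffices hreg : IsRegularRing (W ⊗[S] L) by
    refine RegLocus.isRegularRing_of_ringEquiv' ?_ hreg
    exact ((Algebra.TensorProduct.comm S W L).toRingEquiv.trans
      ((Algebra.TensorProduct.congr (R := S) (AlgEquiv.refl : L ≃ₐ[S] L)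
        (AlgEquiv.ofRingEquiv (f := (Algebra.TensorProduct.comm R A S).toRingEquiv) fun s => by
          show Algebra.TensorProduct.comm R A S ((1 : A) ⊗ₜ s) = s ⊗ₜ 1
          rw [Algebra.TensorProduct.comm_tmul] : W ≃ₐ[S] S ⊗[R] A)).toRingEquiv.trans
        (Algebra.TensorProduct.cancelBaseChange R S S L A).toRingEquiv))
  refine ⟨fun P hP => ?_⟩
  let P0 : Ideal W := P.comap (algebraMap W (W ⊗[S] L))
  have : P0.IsPrime := Ideal.IsPrime.comap _
  obtain ⟨m', hm', hP0⟩ := Ideal.exists_le_maximal P0 Ideal.IsPrime.ne_top'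
  have hover : ∀ (m : Ideal W), m.IsMaximal → m.comap (algebraMap A W) = maximalIdeal A := fun m hm =>
    eq_maximalIdeal (Ideal.isMaximal_comap_of_isIntegral_of_isMaximal m)
  have hoverR : ∀ (m : Ideal W), m.IsMaximal → m.comap (algebraMap R W) = p := fun m hm => by
    rw [IsScalarTower.algebraMap_eq R A W, ← Ideal.comap_comap, hover m hm,
      IsScalarTower.algebraMap_eq R (Localization.AtPrime p) A, ← Ideal.comap_comap]
    rw [show (maximalIdeal A).comap (algebraMap (Localization.AtPrime p) A) = maximalIdeal (Localization.AtPrime p) from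
      ((local_hom_TFAE (algebraMap (Localization.AtPrime p) A)).out 0 4 rfl rfl).1 inferInstance]
    exact Localization.AtPrime.under_maximalIdeal
  let n : Ideal S := m'.comap (algebraMap S W)
  have : n.IsPrime := Ideal.IsPrime.comap _
  have hn : n.comap (algebraMap R S) = p := by
    show (m'.comap (algebraMap S W)).comap (algebraMap R S) = p
    rw [Ideal.comap_comap, ← IsScalarTower.algebraMap_eq, hoverR m' hm']
  have : n.LiesOver p := ⟨hn.symm⟩
  let T := Localization.AtPrime n
  letI : Algebra (Localization.AtPrime p) T := Localization.AtPrime.algebraOfLiesOver p n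
  obtain ⟨hDN, -, -⟩ := RegLocus.cpl_facts T
  let D := EGA4.Cpl T
  have : IsNoetherianRing D := hDN
  have hRm : maximalIdeal A = (n.comap (algebraMap R S)).map (algebraMap R A) := by
    rw [hn, IsScalarTower.algebraMap_eq R (Localization.AtPrime p) A, ← Ideal.map_map,
      Localization.AtPrime.map_eq_maximalIdeal]
    exact AdicCompletion.maximalIdeal_eq_map
  have hDT : maximalIdeal D = (maximalIdeal T).map (algebraMap T D) := AdicCompletion.maximalIdeal_eq_map
  have hTm : maximalIdeal T = n.map (algebraMap S T) := (Localization.AtPrime.map_eq_maximalIdeal).symm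
  have hDm : maximalIdeal D = n.map (algebraMap S D) :=
    hDT.trans ((congrArg (Ideal.map (algebraMap T D)) hTm).trans (by rw [Ideal.map_map, ← IsScalarTower.algebraMap_eq]))
  obtain ⟨ρ0⟩ := RegLocus.exists_cplMap (Localization.AtPrime p) T (maximalIdeal _) (maximalIdeal T)
    (Ideal.map_le_iff_le_comap.2
      (((local_hom_TFAE (algebraMap (Localization.AtPrime p) T)).out 0 4 rfl rfl).1 inferInstance).ge)
  have : IsScalarTower R (Localization.AtPrime p) D := IsScalarTower.of_algebraMap_eq (R := R) (A := D) fun r => by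
    rw [IsScalarTower.algebraMap_apply (Localization.AtPrime p) T D, ← IsScalarTower.algebraMap_apply R (Localization.AtPrime p) T,
      ← IsScalarTower.algebraMap_apply R T D]
  obtain ⟨φ, hφS, -, hloc, -⟩ := SymGr.exists_iso_completion (A := R) (B := S) (R := A) (D := D) n
    (fun k x => by
      obtain ⟨a, t, ht, h⟩ := exists_approx_atPrime R p k x
      exact ⟨a, t, by rwa [hn], h⟩)
    hRm
    (fun b hb => by
      rw [IsScalarTower.algebraMap_apply S T D]
      exact (IsLocalization.map_units T (⟨b, hb⟩ : n.primeCompl)).map _)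
    hDm
    (fun k d => exists_approx_atPrime S n k d)
    (fun k b hb => by
      have := (RegLocus.cpl_facts T).2.1
      rw [hDm, ← Ideal.map_pow, IsScalarTower.algebraMap_eq S T D, ← Ideal.map_map, RingHom.comp_apply,
        ← Ideal.mem_comap, Ideal.comap_map_eq_self_of_faithfullyFlat,
        IsLocalization.algebraMap_mem_map_algebraMap_iff n.primeCompl] at hb
      exact hb)
    (ρ0.restrictScalars R)
  letI : Algebra W D := (φ : W →+* D).toAlgebra
  have : IsScalarTower S W D := IsScalarTower.of_algebraMap_eq (R := S) (S := W) (A := D) fun s => (hφS s).symm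
  let mφ := (maximalIdeal D).comap φ
  have hmφ : mφ.IsPrime := Ideal.IsPrime.comap _
  -- `m'` is the only maximal ideal over `n`
  have hkey : mφ = m' := by
    obtain ⟨m'', hm'', hle⟩ := Ideal.exists_le_maximal mφ hmφ.ne_top
    have hmφn : ∀ b : S, algebraMap S W b ∈ mφ ↔ b ∈ n := fun b => by
      show φ (1 ⊗ₜ b) ∈ maximalIdeal D ↔ _
      rw [hφS, IsScalarTower.algebraMap_apply S T D]
      have := ((local_hom_TFAE (algebraMap T D)).out 0 4 rfl rfl).1 inferInstance
      rw [← Ideal.mem_comap, this]
      exact IsLocalization.AtPrime.to_map_mem_maximal_iff T n b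
    have hmA : ∀ a ∈ maximalIdeal A, algebraMap A W a ∈ mφ := fun a ha => by
      show φ (algebraMap A W a) ∈ maximalIdeal D
      have h0 : (maximalIdeal A).map ((φ : W →+* D).comp (algebraMap A W)) ≤ maximalIdeal D := by
        rw [hRm, Ideal.map_map, Ideal.map_le_iff_le_comap]
        intro r hr
        show φ (algebraMap A W (algebraMap R A r)) ∈ maximalIdeal D
        rw [← IsScalarTower.algebraMap_apply R A W, AlgHom.commutes, IsScalarTower.algebraMap_apply R S D, hDm]
        exact Ideal.mem_map_of_mem _ hr
      exact h0 (Ideal.mem_map_of_mem _ ha)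
    have hdense : ∀ z : W, ∃ b t : S, t ∉ n ∧ z * algebraMap S W t - algebraMap S W b ∈ (maximalIdeal A).map (algebraMap A W) := by
      intro z
      induction z using TensorProduct.induction_on with
      | zero => exact ⟨0, 1, fun h1 => (inferInstance : n.IsPrime).ne_top ((Ideal.eq_top_iff_one n).2 h1), by simp⟩
      | tmul a s =>
        obtain ⟨r, t, ht, h1⟩ := exists_approx_atPrime R p 1 a
        refine ⟨algebraMap R S r * s, algebraMap R S t, fun h2 => ht (hn ▸ h2), ?_⟩
        have e : (a ⊗ₜ[R] s : W) * algebraMap S W (algebraMap R S t) - algebraMap S W (algebraMap R S r * s)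
            = algebraMap A W (a * algebraMap R A t - algebraMap R A r) * algebraMap S W s := by
          rw [map_mul, map_sub, map_mul, ← IsScalarTower.algebraMap_apply R S W, ← IsScalarTower.algebraMap_apply R S W,
            ← IsScalarTower.algebraMap_apply R A W, ← IsScalarTower.algebraMap_apply R A W,
            show (a ⊗ₜ[R] s : W) = algebraMap A W a * algebraMap S W s by
              rw [hWS, Algebra.TensorProduct.algebraMap_apply, Algebra.algebraMap_self, RingHom.id_apply]
              exact ((Algebra.TensorProduct.tmul_mul_tmul a 1 1 s).trans (by rw [mul_one, one_mul])).symm]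
          ring
        rw [e]
        exact Ideal.mul_mem_right _ _ (Ideal.mem_map_of_mem _ (by simpa using h1))
      | add x y hx hy =>
        obtain ⟨b, t, ht, h1⟩ := hx
        obtain ⟨b', t', ht', h2⟩ := hy
        refine ⟨b * t' + b' * t, t * t', fun h3 => ((inferInstance : n.IsPrime).mem_or_mem h3).elim ht ht', ?_⟩
        have := add_mem (Ideal.mul_mem_right (algebraMap S W t') _ h1) (Ideal.mul_mem_right (algebraMap S W t) _ h2)
        convert this using 1
        simp only [map_add, map_mul]
        ring
    refine le_antisymm (fun z hz => ?_) (fun z hz => ?_) <;> obtain ⟨b, t, ht, hb⟩ := hdense z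
    · have h1 : algebraMap S W b ∈ mφ := by
        have := sub_mem (Ideal.mul_mem_right (algebraMap S W t) _ hz) (Ideal.map_le_iff_le_comap.2 hmA hb)
        simpa using this
      have h2 := add_mem (Ideal.map_le_iff_le_comap.2 (hover m' hm').ge hb) (show algebraMap S W b ∈ m' from (hmφn b).1 h1)
      rw [sub_add_cancel] at h2
      exact (hm'.isPrime.mem_or_mem h2).resolve_right ht
    · have h1 : algebraMap S W b ∈ m' := by
        have := sub_mem (Ideal.mul_mem_right (algebraMap S W t) _ hz) (Ideal.map_le_iff_le_comap.2 (hover m' hm').ge hb)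
        simpa using this
      have h2 := add_mem (Ideal.map_le_iff_le_comap.2 hmA hb) ((hmφn b).2 h1)
      rw [sub_add_cancel] at h2
      exact (hmφ.mem_or_mem h2).resolve_right fun h4 => ht ((hmφn t).1 h4)
  -- the prime `Q = ker (S → L)` is contained in `n`
  have hker : ∀ s : S, algebraMap S L s = 0 → s ∈ n := fun s hs => by
    refine hP0 (show algebraMap W (W ⊗[S] L) (algebraMap S W s) ∈ P from ?_)
    rw [← IsScalarTower.algebraMap_apply, Algebra.TensorProduct.algebraMap_apply', hs, TensorProduct.tmul_zero]
    exact zero_mem _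
  have hunit : ∀ y : n.primeCompl, IsUnit (algebraMap S L y) := fun y => isUnit_iff_ne_zero.2 fun h0 => y.2 (hker _ h0)
  letI : Algebra T L := (IsLocalization.lift (S := T) hunit).toAlgebra
  have : IsScalarTower S T L := IsScalarTower.of_algebraMap_eq fun s => (IsLocalization.lift_eq hunit s).symm
  let P2 := RingHom.ker (algebraMap T L)
  have : P2.IsPrime := RingHom.ker_isPrime _
  let j : P2.ResidueField →+* L := Ideal.ResidueField.lift P2 (algebraMap T L) le_rfl (fun t ht =>
    isUnit_iff_ne_zero.2 ht)
  letI : Algebra P2.ResidueField L := j.toAlgebra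
  have : IsScalarTower T P2.ResidueField L := IsScalarTower.of_algebraMap_eq fun t =>
    (Ideal.ResidueField.lift_algebraMap (I := P2) (f := algebraMap T L) le_rfl _ t).symm
  have hj : Function.Bijective (algebraMap P2.ResidueField L) := ⟨RingHom.injective _, fun x => by
    obtain ⟨a, b, -, rfl⟩ := hgen x
    exact ⟨algebraMap T _ (algebraMap S T a) / algebraMap T _ (algebraMap S T b), by
      rw [map_div₀, ← IsScalarTower.algebraMap_apply, ← IsScalarTower.algebraMap_apply,
        ← IsScalarTower.algebraMap_apply, ← IsScalarTower.algebraMap_apply]⟩⟩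
  have hTL : IsRegularRing (L ⊗[T] D) :=
    RegLocus.isRegularRing_of_ringEquiv'
      (Algebra.TensorProduct.congr (R := T) ((AlgEquiv.ofBijective (IsScalarTower.toAlgHom T P2.ResidueField L) hj))
        (AlgEquiv.refl : D ≃ₐ[T] D)).toRingEquiv (h n P2)
  exact regular_at_of_tensor S T W D L n.primeCompl mφ hloc hTL P (hkey ▸ hP0)

/-- G-rings through finite free algebras -/
theorem isGRing_iff_finiteFree (R : Type u) [CommRing R] [IsNoetherianRing R] :
    CAlg.IsGRing R ↔
      ∀ (S : Type u) [CommRing S] [Algebra R S] [Module.Finite R S] [Module.Free R S]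
        (q : Ideal S) [q.IsPrime] (p : Ideal (Localization.AtPrime q)) [p.IsPrime],
        IsRegularRing (EGA4.formalFibre (Localization.AtPrime q) p) := by
  constructor
  · intro hG S _ _ _ _ q _ P _
    have : IsNoetherianRing S := IsNoetherianRing.of_finite R S
    have h := isRegularHom_cpl_quasiFinite R S q (hG.2 _)
    exact RegLocus.isRegularRing_of_ringEquiv' (Algebra.TensorProduct.lid P.ResidueField _).toRingEquiv
      ((h.2 P).2 P.ResidueField inferInstance)
  · intro hreg
    refine ⟨inferInstance, fun p _ => ?_⟩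
    let A := Localization.AtPrime p
    obtain ⟨hcN, hff, -⟩ := RegLocus.cpl_facts A
    have := hcN
    have := hff
    refine ⟨inferInstance, fun Q _ => ⟨RegLocus.isNoetherianRing_fiber A _ Q, fun k _ _ hk => ?_⟩⟩
    classical
    have := hk
    let q := Q.comap (algebraMap R A)
    letI : Algebra A k := ((algebraMap Q.ResidueField k).comp (algebraMap A Q.ResidueField)).toAlgebra
    have : IsScalarTower A Q.ResidueField k := IsScalarTower.of_algebraMap_eq fun _ => rfl
    letI : Algebra R k := ((algebraMap A k).comp (algebraMap R A)).toAlgebra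
    have : IsScalarTower R A k := IsScalarTower.of_algebraMap_eq fun _ => rfl
    have : IsScalarTower R Q.ResidueField k := IsScalarTower.of_algebraMap_eq fun r => by
      show algebraMap Q.ResidueField k (algebraMap A Q.ResidueField (algebraMap R A r)) = _
      rw [← IsScalarTower.algebraMap_apply R A Q.ResidueField]
    have hq0 : ∀ r : R, algebraMap R Q.ResidueField r = 0 ↔ r ∈ q := fun r => by
      rw [IsScalarTower.algebraMap_apply R A Q.ResidueField, Ideal.algebraMap_residueField_eq_zero]; rfl
    letI : Algebra (R ⧸ q) Q.ResidueField :=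
      (Ideal.Quotient.lift q (algebraMap R Q.ResidueField) fun r hr => (hq0 r).2 hr).toAlgebra
    letI : Algebra (R ⧸ q) k := ((algebraMap Q.ResidueField k).comp (algebraMap (R ⧸ q) Q.ResidueField)).toAlgebra
    have : IsScalarTower (R ⧸ q) Q.ResidueField k := IsScalarTower.of_algebraMap_eq fun _ => rfl
    have : IsScalarTower R (R ⧸ q) k := IsScalarTower.of_algebraMap_eq fun r => IsScalarTower.algebraMap_apply R Q.ResidueField k r
    have : FaithfulSMul (R ⧸ q) Q.ResidueField := (faithfulSMul_iff_algebraMap_injective _ _).2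
      (RingHom.lift_injective_of_ker_le_ideal q _ fun r hr => (hq0 r).1 hr)
    have : IsFractionRing (R ⧸ q) Q.ResidueField := IsFractionRing.of_field _ _ fun x => by
      obtain ⟨a, b, hb, rfl⟩ := IsFractionRing.div_surjective (A := A ⧸ Q) x
      obtain ⟨a, rfl⟩ := Ideal.Quotient.mk_surjective a
      obtain ⟨b, rfl⟩ := Ideal.Quotient.mk_surjective b
      obtain ⟨⟨a0, s⟩, hs⟩ := IsLocalization.surj p.primeCompl a
      obtain ⟨⟨b0, t⟩, ht⟩ := IsLocalization.surj p.primeCompl b
      refine ⟨Ideal.Quotient.mk q (a0 * t), Ideal.Quotient.mk q (b0 * s), ?_⟩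
      show algebraMap A Q.ResidueField a / algebraMap A Q.ResidueField b =
        algebraMap R Q.ResidueField (a0 * t) / algebraMap R Q.ResidueField (b0 * s)
      have hu : ∀ u : p.primeCompl, algebraMap A Q.ResidueField (algebraMap R A u) ≠ 0 := fun u =>
        ((IsLocalization.map_units A u).map _).ne_zero
      rw [map_mul, map_mul, IsScalarTower.algebraMap_apply R A, IsScalarTower.algebraMap_apply R A Q.ResidueField t,
        IsScalarTower.algebraMap_apply R A Q.ResidueField b0, IsScalarTower.algebraMap_apply R A Q.ResidueField s,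
        ← hs, ← ht, map_mul, map_mul, mul_assoc, mul_assoc, mul_comm (algebraMap A Q.ResidueField (algebraMap R A t))]
      exact (mul_div_mul_right _ _ (mul_ne_zero (hu s) (hu t))).symm
    have hsc : ∀ x : k, ∃ c : R ⧸ q, c ≠ 0 ∧ IsIntegral R (c • x) := fun x => by
      obtain ⟨c, hc, hcx⟩ := ((IsFractionRing.isAlgebraic_iff (R ⧸ q) Q.ResidueField k).2
        (Algebra.IsAlgebraic.isAlgebraic x)).exists_integral_multiple
      exact ⟨c, hc, isIntegral_trans (R := R) (A := R ⧸ q) _ hcx⟩
    obtain ⟨b, hb⟩ := hk.fg_top
    choose c hc hcint using hsc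
    obtain ⟨S, _, _, ψ, hfin, hfree, hψ⟩ := exists_finiteFree R k (b.image fun x => c x • x) (fun y hy => by
      obtain ⟨x, -, rfl⟩ := Finset.mem_image.1 hy
      exact hcint x)
    letI : Algebra S k := ψ.toRingHom.toAlgebra
    have : IsScalarTower R S k := IsScalarTower.of_algebraMap_eq fun r => (ψ.commutes r).symm
    let K1 := Subfield.closure (Set.range (algebraMap S k))
    have hS1 : ∀ s : S, algebraMap S k s ∈ K1 := fun s => Subfield.subset_closure ⟨s, rfl⟩
    have hR1 : ∀ r : R ⧸ q, algebraMap (R ⧸ q) k r ∈ K1 := fun r => by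
      obtain ⟨r, rfl⟩ := Ideal.Quotient.mk_surjective r
      rw [← Ideal.Quotient.algebraMap_eq, ← IsScalarTower.algebraMap_apply, IsScalarTower.algebraMap_apply R S k]
      exact hS1 _
    have hQ1 : ∀ z : Q.ResidueField, algebraMap Q.ResidueField k z ∈ K1 := fun z => by
      obtain ⟨a, d, -, rfl⟩ := IsFractionRing.div_surjective (A := R ⧸ q) z
      rw [map_div₀, ← IsScalarTower.algebraMap_apply, ← IsScalarTower.algebraMap_apply]
      exact K1.div_mem (hR1 a) (hR1 d)
    have hK1 : ∀ x : k, x ∈ K1 := fun x => by
      have hx : x ∈ Submodule.span Q.ResidueField (b : Set k) := hb ▸ Submodule.mem_top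
      induction hx using Submodule.span_induction with
      | mem y hy =>
        obtain ⟨z, hz⟩ := hψ _ (Finset.mem_image_of_mem _ hy)
        have h1 : algebraMap (R ⧸ q) k (c y) * y ∈ K1 := by
          rw [← Algebra.smul_def, ← hz]; exact hS1 z
        have h0 : algebraMap (R ⧸ q) k (c y) ≠ 0 := by
          rw [IsScalarTower.algebraMap_apply (R ⧸ q) Q.ResidueField k]
          exact (map_ne_zero _).2 ((map_ne_zero_iff _ (FaithfulSMul.algebraMap_injective _ _)).2 (hc y))
        have := K1.mul_mem (K1.inv_mem (hR1 (c y))) h1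
        rwa [inv_mul_cancel_left₀ h0] at this
      | zero => exact K1.zero_mem
      | add y z _ _ h1 h2 => exact K1.add_mem h1 h2
      | smul r y _ h1 => rw [Algebra.smul_def]; exact K1.mul_mem (hQ1 r) h1
    have hgen : ∀ x : k, ∃ a d : S, algebraMap S k d ≠ 0 ∧ x = algebraMap S k a / algebraMap S k d := fun x => by
      obtain ⟨y, hy, z, hz, rfl⟩ := Subfield.mem_closure_iff.1 (hK1 x)
      rw [← RingHom.coe_range, Subring.closure_eq, RingHom.mem_range] at hy hz
      obtain ⟨a, rfl⟩ := hy
      obtain ⟨d, rfl⟩ := hz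
      by_cases hd : algebraMap S k d = 0
      · exact ⟨0, 1, by simp, by simp [hd]⟩
      · exact ⟨a, d, hd, rfl⟩
    have h := isRegularRing_tensor_cpl R S k hgen p (fun n _ P _ => hreg S n P)
    have : TensorProduct.CompatibleSMul R A k (EGA4.Cpl A) := IsLocalization.tensorProduct_compatibleSMul p.primeCompl A _ _
    exact RegLocus.isRegularRing_of_ringEquiv'
      ((Algebra.TensorProduct.equivOfCompatibleSMul R A k k (EGA4.Cpl A)).toRingEquiv.symm.trans
        (Algebra.TensorProduct.cancelBaseChange A Q.ResidueField Q.ResidueField k (EGA4.Cpl A)).symm.toRingEquiv) h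

end Groth.Agent.FormalFibreQF
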